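import Mathlib
import Cfsg.Agent.Base
import Cfsg.Agent.Lib.BSE14.Mod
import Cfsg.Agent.Lib.Core.CoprimeSylow
import Cfsg.Agent.Lib.Core.PCore
import Cfsg.Agent.Lib.RankOne.OddInv
import Cfsg.Agent.Lib.ZStar.UniqueInvol

/-!
# Faithful modules in characteristic two for groups of 2-rank one
-/

set_option autoImplicit false
set_option linter.unusedSectionVars false

namespace H14.Mod2

open Module Cfsg

theorem arith_aux {k N p m : ℕ} (hk : k ≤ 5) (hp : p.Prime) (hodd : Odd p) (hm : 0 < m)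
    (h1 : 2 ^ k ∣ p ^ m - 1) (h2 : p ^ (m + 1) ∣ N)
    (hN : (k = 1 ∧ N = 1) ∨ (k = 2 ∧ N = 168) ∨ (k = 3 ∧ N = 9999360) ∨ (k = 4 ∧ N = 163849992929280) ∨
      (k = 5 ∧ N = 699612310033197642547200)) : False := by
  have h5 : N ∣ 2 ^ 36 * (3 ^ 5 * (5 ^ 2 * (7 ^ 3 * (17 * (31 * (73 * 127)))))) := by
    rcases hN with ⟨-, rfl⟩ | ⟨-, rfl⟩ | ⟨-, rfl⟩ | ⟨-, rfl⟩ | ⟨-, rfl⟩ <;> norm_num
  have h6 := h2.trans h5
  have h7 := (dvd_pow_self p (Nat.succ_ne_zero m)).trans h6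
  have hp' : p = 3 ∨ p = 5 ∨ p = 7 ∨ p = 17 ∨ p = 31 ∨ p = 73 ∨ p = 127 := by
    have e : ∀ {q : ℕ}, q.Prime → p ∣ q → p = q := fun hq h => (Nat.prime_dvd_prime_iff_eq hp hq).mp h
    simp only [hp.dvd_mul] at h7
    rcases h7 with h | h | h | h | h | h | h | h
    · rw [e Nat.prime_two (hp.dvd_of_dvd_pow h)] at hodd
      exact absurd hodd (by decide)
    · exact Or.inl (e (by norm_num) (hp.dvd_of_dvd_pow h))
    · exact Or.inr (Or.inl (e (by norm_num) (hp.dvd_of_dvd_pow h)))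
    · exact Or.inr (Or.inr (Or.inl (e (by norm_num) (hp.dvd_of_dvd_pow h))))
    · exact Or.inr (Or.inr (Or.inr (Or.inl (e (by norm_num) h))))
    · exact Or.inr (Or.inr (Or.inr (Or.inr (Or.inl (e (by norm_num) h)))))
    · exact Or.inr (Or.inr (Or.inr (Or.inr (Or.inr (Or.inl (e (by norm_num) h))))))
    · exact Or.inr (Or.inr (Or.inr (Or.inr (Or.inr (Or.inr (e (by norm_num) h))))))
  have hm4 : m ≤ 4 := by
    by_contra hc
    have := (pow_dvd_pow p (show 6 ≤ m + 1 by omega)).trans h6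
    rcases hp' with rfl | rfl | rfl | rfl | rfl | rfl | rfl <;> norm_num at this
  rcases hN with ⟨rfl, rfl⟩ | ⟨rfl, rfl⟩ | ⟨rfl, rfl⟩ | ⟨rfl, rfl⟩ | ⟨rfl, rfl⟩ <;>
    rcases hp' with rfl | rfl | rfl | rfl | rfl | rfl | rfl <;> interval_cases m <;>
    first | (norm_num at h2; done) | (norm_num at h1; done)

theorem arith {k n p m : ℕ} (hk : k ≤ 5) (hn : n < 2 * k) (hp : p.Prime) (hodd : Odd p) (hm : 0 < m)
    (h1 : 2 ^ k ∣ p ^ m - 1) (h2 : p ^ (m + 1) ∣ ∏ i ∈ Finset.range n, (2 ^ n - 2 ^ i)) : False := by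
  have hk1 : 1 ≤ k := by omega
  interval_cases k
  · refine arith_aux (N := 1) hk hp hodd hm h1 (h2.trans ?_) (by norm_num)
    interval_cases n <;> norm_num [Finset.prod_range_succ]
  · refine arith_aux (N := 168) hk hp hodd hm h1 (h2.trans ?_) (by norm_num)
    interval_cases n <;> norm_num [Finset.prod_range_succ]
  · refine arith_aux (N := 9999360) hk hp hodd hm h1 (h2.trans ?_) (by norm_num)
    interval_cases n <;> norm_num [Finset.prod_range_succ]
  · refine arith_aux (N := 163849992929280) hk hp hodd hm h1 (h2.trans ?_) (by norm_num)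
    interval_cases n <;> norm_num [Finset.prod_range_succ]
  · refine arith_aux (N := 699612310033197642547200) hk hp hodd hm h1 (h2.trans ?_) (by norm_num)
    interval_cases n <;> norm_num [Finset.prod_range_succ]

theorem two_mul_le_two_pow (k : ℕ) : 2 * k ≤ 2 ^ k := by
  rcases k with _ | k
  · simp
  · have := Nat.lt_two_pow_self (n := k)
    rw [pow_succ]
    omega

theorem two_mul_le_of_six {k : ℕ} (hk : 6 ≤ k) : 2 * k ≤ 2 ^ (k - 2) := by
  obtain ⟨j, rfl⟩ := Nat.exists_eq_add_of_le hk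
  have := Nat.lt_two_pow_self (n := j)
  rw [show 6 + j - 2 = j + 4 by omega, pow_add]
  omega

variable {G : Type*} [Group G] [Finite G] {V : Type*} [AddCommGroup V] [Module (ZMod 2) V]
  [Module.Finite (ZMod 2) V] (ρ : Representation (ZMod 2) G V)

theorem exists_large {S : Type*} [Group S] [Finite S] (h : H41.UniqInv S) {k : ℕ} (hk : Nat.card S = 2 ^ k) :
    ∃ s : S, 2 ^ (k - 1) ∣ orderOf s := by
  rcases h.cyclic_or_quaternion (IsPGroup.of_card hk) with h1 | ⟨n, ⟨e⟩⟩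
  · obtain ⟨s, hs⟩ := h1.exists_ofOrder_eq_natCard
    exact ⟨s, by rw [hs, hk]; exact pow_dvd_pow 2 (by omega)⟩
  · refine ⟨e.symm (QuaternionGroup.a 1), ?_⟩
    have h2 : 2 ^ k = 2 ^ (n + 3) := by
      rw [← hk, Nat.card_congr e.toEquiv, Nat.card_eq_fintype_card, QuaternionGroup.card]
      ring
    rw [MulEquiv.orderOf_eq, QuaternionGroup.orderOf_a_one, Nat.pow_right_injective le_rfl h2, ← pow_succ']
    exact dvd_rfl

theorem bound_rank_one (hρ : Function.Injective ρ) {S O : Subgroup G} (hu : H41.UniqInv S) {k : ℕ}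
    (hk : Nat.card S = 2 ^ k) (hO : Odd (Nat.card O)) (hSO : S ≤ Subgroup.normalizer (O : Set G)) {z : G}
    (hzS : z ∈ S) (hz : z * z = 1) (hzO : ¬ O ≤ Subgroup.centralizer {z}) : 2 * k ≤ finrank (ZMod 2) V := by
  haveI : Fact (Nat.Prime 2) := ⟨Nat.prime_two⟩
  have hS : IsPGroup 2 S := IsPGroup.of_card hk
  have hz1 : z ≠ 1 := by
    rintro rfl
    exact hzO fun x _ => Subgroup.mem_centralizer_singleton_iff.mpr (by simp)
  have hpow : ∀ r ∈ S, r ≠ 1 → z ∈ Subgroup.zpowers r := by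
    intro r hr hr1
    obtain ⟨m, hm⟩ := IsPGroup.iff_orderOf.mp hS ⟨r, hr⟩
    rcases m with _ | m
    · exact absurd (congrArg Subtype.val (orderOf_eq_one_iff.mp hm)) hr1
    · obtain ⟨i, hi⟩ := hu.mem_of_mul_self hm (u := ⟨z, hzS⟩) (Subtype.ext hz)
      exact ⟨i, congrArg Subtype.val hi⟩
  have hcz : ∀ r ∈ S, r * z * r⁻¹ = z := fun r hr =>
    congrArg Subtype.val (hu (⟨r, hr⟩ * ⟨z, hzS⟩ * ⟨r, hr⟩⁻¹) ⟨z, hzS⟩
      (Subtype.ext (by
        show r * z * r⁻¹ * (r * z * r⁻¹) = 1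
        calc r * z * r⁻¹ * (r * z * r⁻¹) = r * (z * z) * r⁻¹ := by group
          _ = 1 := by rw [hz, mul_one, mul_inv_cancel]))
      (Subtype.ext hz) (fun e => hz1 (by simpa using congrArg Subtype.val e))
      fun e => hz1 (congrArg Subtype.val e))
  by_cases h6 : 6 ≤ k
  · obtain ⟨s, hs⟩ := exists_large hu hk
    refine (two_mul_le_of_six h6).trans (lt_finrank ρ hρ (s := s) (fun e => ?_) (m := k) ?_).le
    · have h1 := hs.trans (Subgroup.orderOf_coe s ▸ orderOf_dvd_of_pow_eq_one e)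
      rw [Nat.pow_dvd_pow_iff_le_right one_lt_two] at h1
      omega
    · rw [← hk]
      exact H40.pow_card_eq_one_of_mem s.2
  obtain ⟨p, hp, P, hP, hSP, hPz⟩ : ∃ (p : ℕ) (_ : Fact p.Prime) (P : Subgroup G), H68.SylowIn p P O ∧
      S ≤ Subgroup.normalizer (P : Set G) ∧ ¬ P ≤ Subgroup.centralizer {z} := by
    by_contra hc
    push Not at hc
    haveI := hS.isNilpotent
    exact hzO (H2.le_of_forall_invariant_sylowIn_le hSO
      (hk ▸ Nat.Coprime.pow_left k (Nat.coprime_two_left.mpr hO)) (Or.inl inferInstance)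
      fun p hp P h1 h2 => hc p hp P h1 h2)
  have hPo : Odd (Nat.card P) := hO.of_dvd_nat (Subgroup.card_dvd_of_le hP.le)
  have hP1 : P ≠ ⊥ := fun e => hPz (e ▸ bot_le)
  by_cases hC : P ⊓ Subgroup.centralizer {z} = ⊥
  · refine (two_mul_le_two_pow k).trans (hk ▸ card_le_of_frobenius ρ hρ hS hSP (fun r hr hr1 => ?_) hPo hP1)
    rw [eq_bot_iff, ← hC]
    refine inf_le_inf_left _ ?_
    rw [← H2.centralizer_zpowers r]
    exact Subgroup.centralizer_le (Set.singleton_subset_iff.mpr (hpow r hr hr1))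
  by_contra hlt
  have hconj : ∀ r ∈ S, ∀ x ∈ P, r * x * r⁻¹ ∈ P := fun r hr x hx =>
    (Subgroup.mem_normalizer_iff.mp (hSP hr) x).mp hx
  have hcard := H40.card_eq_card_cent_mul_card_inverted hz hPo (hconj z hzS)
  obtain ⟨a, ha⟩ := IsPGroup.iff_card.mp hP.isPGroup
  obtain ⟨m, -, hm⟩ := (Nat.dvd_prime_pow hp.out).mp (ha ▸ (Dvd.intro_left _ hcard.symm))
  have hpC : p ∣ Nat.card ↥(P ⊓ Subgroup.centralizer {z}) :=
    H68.dvd_card_of_isPGroup_of_ne_bot (hP.isPGroup.to_le inf_le_left) hC le_rfl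
  have hm0 : 0 < m := by
    rw [Nat.pos_iff_ne_zero]
    rintro rfl
    rw [hm, pow_zero, mul_one] at hcard
    exact hPz (inf_eq_left.mp (Subgroup.eq_of_le_of_card_ge inf_le_left hcard.le))
  have hpodd : Odd p := hPo.of_dvd_nat (hpC.trans (Subgroup.card_dvd_of_le inf_le_left))
  refine arith (k := k) (by omega) (not_le.mp hlt) hp.out hpodd hm0 ?_ ?_
  · letI : MulAction S {x : invertedBy P z // (x : G) ≠ 1} :=
      { smul := fun r x => ⟨⟨r * x.1 * (r : G)⁻¹, hconj r r.2 _ x.1.2.1, by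
          have h1 := x.1.2.2
          have h2 := hcz (r : G)⁻¹ (S.inv_mem r.2)
          calc z * (r * x.1 * (r : G)⁻¹) * z⁻¹
              = r * (((r : G)⁻¹ * z * (r : G)⁻¹⁻¹) * x.1 * ((r : G)⁻¹ * z * (r : G)⁻¹⁻¹)⁻¹) * (r : G)⁻¹ := by
                group
            _ = _ := by rw [h2, h1]; group⟩, by simpa using x.2⟩
        one_smul := fun x => Subtype.ext (Subtype.ext (by show (1 : G) * x.1 * (1 : G)⁻¹ = x.1; simp))
        mul_smul := fun r s x => Subtype.ext (Subtype.ext (by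
          show ((r : G) * s) * x.1 * ((r : G) * s)⁻¹ = r * (s * x.1 * (s : G)⁻¹) * (r : G)⁻¹
          group)) }
    have h1 := H2.card_dvd_of_free (A := S) (X := {x : invertedBy P z // (x : G) ≠ 1}) fun r x e => by
      by_contra hr
      have e' : (r : G) * x.1 * (r : G)⁻¹ = x.1 := congrArg (fun y => (y.1 : G)) e
      have h2 : Commute (r : G) x.1 := mul_inv_eq_iff_eq_mul.mp e'
      obtain ⟨i, hi⟩ := hpow r r.2 fun e1 => hr (Subtype.ext e1)
      have h3 : Commute z x.1 := hi ▸ h2.zpow_left i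
      have h4 := x.1.2.2
      rw [h3.eq, mul_inv_cancel_right, eq_inv_iff_mul_eq_one] at h4
      exact x.2 (H40.eq_one_of_sq_of_mem hPo x.1.2.1 h4)
    have h2 : Nat.card {x : invertedBy P z // (x : G) ≠ 1} = p ^ m - 1 := by
      classical
      haveI := Fintype.ofFinite (invertedBy P z)
      rw [← hm, Nat.card_eq_fintype_card, Nat.card_eq_fintype_card, Fintype.card_subtype_compl]
      congr 1
      rw [Fintype.card_eq_one_iff]
      exact ⟨⟨⟨1, H40.one_mem_invertedBy _ _⟩, rfl⟩, fun y => Subtype.ext (Subtype.ext y.2)⟩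
    rwa [hk, h2] at h1
  · refine dvd_trans ?_ ((Subgroup.card_subgroup_dvd_card P).trans (card_dvd_GL ρ hρ))
    rw [hcard, hm, pow_succ']
    exact Nat.mul_dvd_mul_right hpC _

end H14.Mod2
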